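import Cfsg.Agent.H672.OZ.Full
import Cfsg.Agent.H733.OZ.Good

/-!
# One vanishing class: the kernel sieve with T4 (helper672, for the sporadic rows of S4842)

`h : One χ x`, `c = |C(x)|`, `d = χ(1)`, `N = |G|`, `l` the factorization of `N` (prime, exponent).

* `okd4` : `okd` and T4 (helper733): `|G|_r ∣ d² - 1` or `c ≤ |G|_r` (with `c0 ≤ c`, and `c = |G|_r'` if `|G|_r' ∣ d`);
* `mem_of_sieve4` : the degree is in the list `D` of the divisors which pass, by `decide +kernel`;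
* `iso_mod_of` : the residue of the degree modulo an isolated prime, from one element `z`;
* `two_mod_of` : the same for `|C(z)| = 2 p`.

See also `JThree.cent_of_val` : `χ y = v`, `v` a nonzero integer: `c (v² - 1) ≤ |C(y)|`.
-/

set_option autoImplicit false

open Cfsg Cfsg.Agent.Characters Cfsg.Agent.H686.CharKit Cfsg.Agent.H732.VZ Cfsg.Agent.H604.OZ

namespace Cfsg.Agent.H672.OZ

universe u

variable {G : Type u} [Group G] [Finite G] {χ : IrrCharacter G} {x : G}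

/-- T4 with the lower bound `c0` -/
def okT4 (c0 d : ℕ) (y : ℕ × ℕ) : Bool := Nat.ble c0 (y.1 ^ y.2) || Nat.beq ((d * d - 1) % y.1 ^ y.2) 0

/-- **The test of the degree with T4.** -/
def okd4 (N c0 : ℕ) (l : List (ℕ × ℕ)) (iso : List ℕ) (d : ℕ) : Bool :=
  okd N c0 l iso d && (l.all (okT4 c0 d) && l.all fun y => !(isFull d y) || l.all (okT4 (y.1 ^ y.2) d))

theorem okd4_of (h : One χ x) {N c0 : ℕ} (hN : Nat.card G = N) {l : List (ℕ × ℕ)}
    (hl : Cfsg.Agent.H417.Divs.val l = N)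
    (hp : ∀ y ∈ l, y.1.Prime) (he : ∀ y ∈ l, y.2 ≠ 0 ∧ ¬ y.1 ^ (y.2 + 1) ∣ N) (hc : c0 ≤ cent x) {iso : List ℕ}
    (hiso : ∀ r ∈ iso, charDegree (χ : G → ℂ) % r = 0 ∨ charDegree (χ : G → ℂ) % r = 1 ∨
      charDegree (χ : G → ℂ) % r = r - 1) :
    okd4 N c0 l iso (charDegree (χ : G → ℂ)) = true := by
  rw [okd4, okd_of h hN hl hp he hc hiso, Bool.true_and, Bool.and_eq_true]
  set d := charDegree (χ : G → ℂ) with hdd
  have hdl : ∀ y ∈ l, y.1 ^ y.2 ∣ N := by
    intro y hy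
    rw [← hl, Cfsg.Agent.H417.Divs.val]
    exact List.dvd_prod (List.mem_map.2 ⟨y, hy, rfl⟩)
  have key : ∀ c : ℕ, c ≤ cent x → l.all (okT4 c d) = true := by
    intro c hcx
    rw [List.all_eq_true]
    intro y hy
    unfold okT4
    rw [Bool.or_eq_true]
    by_cases h1 : y.1 ^ y.2 ∣ d ^ 2 - 1
    · right
      rw [← pow_two, Nat.mod_eq_zero_of_dvd h1]
      rfl
    · left
      have h2 := H733.OZ.cent_le h (hp y hy) (by rw [hN]; exact hdl y hy) (by rw [hN]; exact (he y hy).2) h1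
      rw [Nat.ble_eq]
      exact hcx.trans h2
  refine ⟨key c0 hc, ?_⟩
  rw [List.all_eq_true]
  intro y hy
  by_cases hyf : isFull d y = true
  · rw [hyf, Bool.not_true, Bool.false_or]
    have h3 : y.1 ^ y.2 ∣ d := Nat.dvd_of_mod_eq_zero (Nat.eq_of_beq_eq_true hyf)
    exact key _ (full h (hp y hy) (he y hy).1 (by rw [hN]; exact hdl y hy) (by rw [hN]; exact (he y hy).2) h3).2.1.ge
  · rw [Bool.not_eq_true] at hyf
    rw [hyf]; rfl

/-- **The sieve with T4**: the list `D` of the divisors of `N` which pass the test. -/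
theorem mem_of_sieve4 (h : One χ x) {N c0 : ℕ} (hN : Nat.card G = N) {l : List (ℕ × ℕ)}
    (hl : Cfsg.Agent.H417.Divs.val l = N)
    (hp : ∀ y ∈ l, y.1.Prime) (he : ∀ y ∈ l, y.2 ≠ 0 ∧ ¬ y.1 ^ (y.2 + 1) ∣ N) (hc : c0 ≤ cent x) {iso : List ℕ}
    (hiso : ∀ r ∈ iso, charDegree (χ : G → ℂ) % r = 0 ∨ charDegree (χ : G → ℂ) % r = 1 ∨
      charDegree (χ : G → ℂ) % r = r - 1) {D : List ℕ}
    (hD : ((Cfsg.Agent.H417.Divs.divs l).all fun d => !(okd4 N c0 l iso d) || D.contains d) = true) :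
    charDegree (χ : G → ℂ) ∈ D := by
  have h1 := Cfsg.Agent.H417.Divs.all_divs l hp hl hD (d := charDegree (χ : G → ℂ)) (by rw [← hN]; exact deg_dvd χ)
  rw [okd4_of h hN hl hp he hc hiso, Bool.not_true, Bool.false_or, List.contains_iff_mem] at h1
  exact h1

/-- **T4 for a concrete degree**: `c ≤ r ^ n`. -/
theorem cent_le_of (h : One χ x) {N r n d : ℕ} (hN : Nat.card G = N) (hr : r.Prime) (hd : charDegree (χ : G → ℂ) = d)
    (h1 : r ^ n ∣ N) (h2 : ¬ r ^ (n + 1) ∣ N) (h3 : ¬ r ^ n ∣ d ^ 2 - 1) : cent x ≤ r ^ n :=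
  H733.OZ.cent_le h hr (by rw [hN]; exact h1) (by rw [hN]; exact h2) (by rw [hd]; exact h3)

/-- The centralizer of an element of order `p` is not smaller than `p`. -/
theorem card_cent_eq {z : G} {p : ℕ} (hz : orderOf z = p)
    (hC : Nat.card (Subgroup.centralizer ({z} : Set G)) ≤ p) :
    Nat.card (Subgroup.centralizer ({z} : Set G)) = p := by
  refine le_antisymm hC ?_
  rw [← hz]
  exact Nat.le_of_dvd Nat.card_pos (Subgroup.orderOf_dvd_natCard _ (mem_cent.2 rfl))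

/-- **The residue modulo an isolated prime** (helper849's T5), from one element `z` of order `p`. -/
theorem iso_mod_of [IsSimpleGroup G] (h : One χ x) {p : ℕ} (hp : p.Prime) (h7 : 7 ≤ p) (hsq : ¬ p ^ 2 ∣ Nat.card G)
    (hG : Nat.card G ≠ p) {z : G} (hz : orderOf z = p)
    (hC : Nat.card (Subgroup.centralizer ({z} : Set G)) ≤ p) (h4 : 4 ≤ cent x) :
    charDegree (χ : G → ℂ) % p = 0 ∨ charDegree (χ : G → ℂ) % p = 1 ∨ charDegree (χ : G → ℂ) % p = p - 1 := by
  rcases H849.OZ.iso hp h7 hsq hG hz (card_cent_eq hz hC) h h4 with h1 | h1 | h1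
  · exact Or.inr (Or.inl h1)
  · exact Or.inr (Or.inr h1)
  · exact Or.inl (Nat.mod_eq_zero_of_dvd h1.1)

/-- **The residue modulo a prime `p` with `|C(z)| = 2 p`** (helper849's T5): `x` is `p`-regular, `d ≡ ± 1`. -/
theorem two_mod_of [IsSimpleGroup G] (h : One χ x) {p : ℕ} (hp : p.Prime) (h7 : 7 ≤ p) (hd : p ∣ Nat.card G)
    (hsq : ¬ p ^ 2 ∣ Nat.card G) (hG : Nat.card G ≠ p) {z : G} (hz : orderOf z = p)
    (hC : Nat.card (Subgroup.centralizer ({z} : Set G)) = 2 * p) (h4 : 4 ≤ cent x) :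
    charDegree (χ : G → ℂ) % p = 1 ∨ charDegree (χ : G → ℂ) % p = p - 1 := by
  have hx : ¬ p ∣ orderOf x := by
    rcases Nat.lt_or_ge p (cent x) with h1 | h1
    · exact H733.OZ.not_dvd_orderOf h (r := p) (n := 1) hp (by rw [pow_one]; exact hd) hsq (by rw [pow_one]; exact h1)
    · exact H849.OZ.not_dvd_of_le hp hsq hz (by rw [hC]; have := hp.pos; omega) h1
  exact H849.OZ.mod_of_two hp h7 hsq hG hz hC h hx h4

end Cfsg.Agent.H672.OZ
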