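import Cfsg.Agent.H604.OZ.Basic
import Cfsg.Agent.H849.OZ.TFive
import Cfsg.Agent.H418.Frob
import Cfsg.Agent.H417.Divs

/-!
# One vanishing class: a degree divisible by a full prime power (helper672, for the sporadic rows of S4842)

`h : One χ x`, `c = |C(x)|`, `d = χ(1)`, `N = |G|`, `r ^ n ∥ N`, `n ≠ 0`.

* `full` : if `r ^ n ∣ d`, then `x` has order `r`, `c = r ^ n` and `r ^ n ∣ 1 + N / r ^ n` (no class facts are needed:
  all `r`-singular elements are conjugate to `x`; Frobenius' theorem);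
* `okd`, `okd_of` : the resulting Boolean test of the degree, for `decide +kernel` over the list of the divisors.
-/

set_option autoImplicit false

open Cfsg Cfsg.Agent.Characters Cfsg.Agent.H686.CharKit Cfsg.Agent.H732.VZ Cfsg.Agent.H604.OZ

namespace Cfsg.Agent.H672.OZ

universe u

variable {G : Type u} [Group G]

theorem mem_cent {a g : G} : g ∈ Subgroup.centralizer ({a} : Set G) ↔ g * a = a * g :=
  Subgroup.mem_centralizer_singleton_iff

/-- Conjugate elements have centralizers of the same order. -/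
theorem cent_eq_of_conj {a b : G} (h : IsConj a b) : cent a = cent b := by
  obtain ⟨c, rfl⟩ := isConj_iff.1 h
  refine Nat.card_congr ⟨fun g => ⟨c * g * c⁻¹, ?_⟩, fun g => ⟨c⁻¹ * g * c, ?_⟩, ?_, ?_⟩
  · have h1 := mem_cent.1 g.2
    rw [mem_cent]
    calc c * (g : G) * c⁻¹ * (c * a * c⁻¹) = c * ((g : G) * a) * c⁻¹ := by group
      _ = c * (a * g) * c⁻¹ := by rw [h1]
      _ = c * a * c⁻¹ * (c * g * c⁻¹) := by group
  · have h1 := mem_cent.1 g.2
    rw [mem_cent]
    calc c⁻¹ * (g : G) * c * a = c⁻¹ * ((g : G) * (c * a * c⁻¹)) * c := by group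
      _ = c⁻¹ * (c * a * c⁻¹ * g) * c := by rw [h1]
      _ = a * (c⁻¹ * g * c) := by group
  · intro g
    exact Subtype.ext (by simp [mul_assoc])
  · intro g
    exact Subtype.ext (by simp [mul_assoc])

variable [Finite G] {χ : IrrCharacter G} {x : G}

/-- **A degree divisible by the full power of a prime.** -/
theorem full (h : One χ x) {r n : ℕ} (hr : r.Prime) (hn : n ≠ 0) (h1 : r ^ n ∣ Nat.card G)
    (h2 : ¬ r ^ (n + 1) ∣ Nat.card G) (hd : r ^ n ∣ charDegree (χ : G → ℂ)) :
    orderOf x = r ∧ cent x = r ^ n ∧ r ^ n ∣ 1 + Nat.card G / r ^ n := by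
  classical
  have hF : Fact r.Prime := ⟨hr⟩
  have hc : ∀ g : G, r ∣ orderOf g → IsConj x g := fun g hg => conj_of_singular h hr h1 h2 hd hg
  have hrN : r ∣ Nat.card G := (dvd_pow_self r hn).trans h1
  -- the order
  obtain ⟨y, hy⟩ := exists_prime_orderOf_dvd_card' r hrN
  have hxr : orderOf x = r := (orderOf_eq_of_conj (hc y (by rw [hy]))).trans hy
  -- the centralizer has order divisible by `r ^ n`
  let P : Sylow r G := default
  have hPr : r ^ n ∣ Nat.card (P : Subgroup G) := P.pow_dvd_card_of_pow_dvd_card h1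
  have hPnt : Nontrivial (P : Subgroup G) := by
    rw [← Finite.one_lt_card_iff_nontrivial]
    exact lt_of_lt_of_le (Nat.one_lt_pow hn hr.one_lt) (Nat.le_of_dvd Nat.card_pos hPr)
  have hZ := P.2.center_nontrivial
  obtain ⟨z, hz⟩ := exists_ne (1 : Subgroup.center (P : Subgroup G))
  have hz1 : ((z : (P : Subgroup G)) : G) ≠ 1 := fun h => hz (Subtype.ext (Subtype.ext h))
  have hzr : r ∣ orderOf ((z : (P : Subgroup G)) : G) := by
    obtain ⟨k, hk⟩ := P.2.exists_orderOf_eq_pow (z : (P : Subgroup G))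
    rw [Subgroup.orderOf_coe, hk]
    refine dvd_pow_self r ?_
    rintro rfl
    rw [pow_zero, orderOf_eq_one_iff] at hk
    exact hz (Subtype.ext hk)
  have hPz : (P : Subgroup G) ≤ Subgroup.centralizer ({((z : (P : Subgroup G)) : G)} : Set G) := by
    intro g hg
    rw [mem_cent]
    exact congrArg Subtype.val (Subgroup.mem_center_iff.1 z.2 ⟨g, hg⟩)
  have hcr : r ^ n ∣ cent x := by
    rw [cent_eq_of_conj (hc _ hzr)]
    exact hPr.trans (Subgroup.card_dvd_of_le hPz)
  -- no other prime divides it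
  have hs : ∀ {s : ℕ}, s.Prime → s ∣ cent x → s = r := by
    intro s hsp hsd
    by_contra hsr
    have : Fact s.Prime := ⟨hsp⟩
    obtain ⟨w, hw⟩ := exists_prime_orderOf_dvd_card' s hsd
    have hw' : orderOf (w : G) = s := by rw [Subgroup.orderOf_coe]; exact hw
    have hcomm : Commute x (w : G) := (mem_cent.1 w.2).symm
    have h3 : orderOf (x * (w : G)) = r * s := by
      rw [hcomm.orderOf_mul_eq_mul_orderOf_of_coprime (by
        rw [hxr, hw']; exact (Nat.coprime_primes hr hsp).2 (Ne.symm hsr)), hxr, hw']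
    have h4 := orderOf_eq_of_conj (hc (x * (w : G)) (by rw [h3]; exact dvd_mul_right r s))
    rw [hxr, h3] at h4
    have h5 := hr.pos
    have h6 := hsp.one_lt
    nlinarith
  have hc0 : cent x ≠ 0 := Nat.card_pos.ne'
  have hcx : cent x = r ^ (cent x).primeFactorsList.length :=
    Nat.eq_prime_pow_of_unique_prime_dvd hc0 fun {s} hsp hsd => hs hsp hsd
  have hcN : cent x ∣ Nat.card G := Subgroup.card_subgroup_dvd_card _
  have hcent : cent x = r ^ n := by
    set m := (cent x).primeFactorsList.length with hm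
    have hm1 : n ≤ m := by
      rw [hcx] at hcr
      exact (Nat.pow_dvd_pow_iff_le_right hr.one_lt).1 hcr
    have hm2 : m ≤ n := by
      by_contra hlt
      apply h2
      refine (pow_dvd_pow r (by omega : n + 1 ≤ m)).trans ?_
      rw [← hcx]
      exact hcN
    rw [hcx, le_antisymm hm2 hm1]
  refine ⟨hxr, hcent, ?_⟩
  -- the count
  have := Fintype.ofFinite G
  have h3 := H418.Frob.frobenius_dvd (G := G) (r ^ n) h1
  have h4 := card_zeros h
  have h5 : Nat.card {g : G // g ^ (r ^ n) = 1} = 1 + (Finset.univ.filter fun g : G => (χ : G → ℂ) g = 0).card := by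
    rw [Nat.card_eq_fintype_card, Fintype.card_subtype, add_comm, ← Finset.card_insert_of_notMem (a := (1 : G))]
    · congr 1
      ext g
      simp only [Finset.mem_filter, Finset.mem_univ, true_and, Finset.mem_insert]
      constructor
      · intro hg
        by_cases hg1 : g = 1
        · exact Or.inl hg1
        · right
          have hgo : orderOf g ∣ r ^ n := orderOf_dvd_of_pow_eq_one hg
          obtain ⟨k, -, hk⟩ := (Nat.dvd_prime_pow hr).1 hgo
          have hrg : r ∣ orderOf g := by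
            rw [hk]
            refine dvd_pow_self r ?_
            rintro rfl
            rw [pow_zero, orderOf_eq_one_iff] at hk
            exact hg1 hk
          obtain ⟨c, rfl⟩ := isConj_iff.1 (hc g hrg)
          rw [Core.isIrr_isClassFunction χ.2 x c]
          exact h.zero
      · rintro (rfl | hg)
        · exact one_pow _
        · have h6 := orderOf_eq_of_conj (h.uniq g hg)
          rw [hxr] at h6
          have h7 : orderOf g ∣ r ^ n := by rw [← h6]; exact dvd_pow_self r hn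
          exact orderOf_dvd_iff_pow_eq_one.1 h7
    · simp only [Finset.mem_filter, Finset.mem_univ, true_and]
      intro h6
      exact ne_one h (isConj_one_left.1 (h.uniq 1 h6))
  rw [h5] at h3
  have h6 : Nat.card G / r ^ n = (Finset.univ.filter fun g : G => (χ : G → ℂ) g = 0).card := by
    rw [← h4]
    have h7 : Nat.card (Subgroup.centralizer ({x} : Set G)) = r ^ n := hcent
    rw [h7]
    exact Nat.mul_div_cancel _ (pow_pos hr.pos n)
  rw [h6]
  exact h3

/-- The full power of a prime does not divide the degree (by the order of the group only). -/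
theorem not_full (h : One χ x) {r n : ℕ} (hr : r.Prime) (hn : n ≠ 0) (h1 : r ^ n ∣ Nat.card G)
    (h2 : ¬ r ^ (n + 1) ∣ Nat.card G) (h3 : (1 + Nat.card G / r ^ n) % r ^ n ≠ 0) :
    ¬ r ^ n ∣ charDegree (χ : G → ℂ) := fun hd =>
  h3 (Nat.mod_eq_zero_of_dvd (full h hr hn h1 h2 hd).2.2)

/-! ### the Boolean test -/

/-- the full power divides the degree -/
def isFull (d : ℕ) (y : ℕ × ℕ) : Bool := Nat.beq (d % y.1 ^ y.2) 0

/-- the condition of `full` -/
def okFull (N d : ℕ) (y : ℕ × ℕ) : Bool :=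
  !(isFull d y) || (Nat.beq ((1 + N / y.1 ^ y.2) % y.1 ^ y.2) 0 &&
    Nat.ble (y.1 ^ y.2 * (d * d)) (N + y.1 ^ y.2))

/-- residues of the degree -/
def okMod (d r : ℕ) : Bool := Nat.beq (d % r) 0 || (Nat.beq (d % r) 1 || Nat.beq (d % r) (r - 1))

/-- **The test of the degree**: `c0 ≤ c`, `l` the factorization of `N`, `iso` isolated primes. -/
def okd (N c0 : ℕ) (l : List (ℕ × ℕ)) (iso : List ℕ) (d : ℕ) : Bool :=
  Nat.blt 1 d && (Nat.ble (c0 * (d * d)) (N + c0) && (iso.all (okMod d) && (l.all (okFull N d) &&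
    l.all fun y => !(isFull d y) || l.all fun y' => !(isFull d y') || Nat.beq (y.1 ^ y.2) (y'.1 ^ y'.2))))

theorem okd_of (h : One χ x) {N c0 : ℕ} (hN : Nat.card G = N) {l : List (ℕ × ℕ)} (hl : Cfsg.Agent.H417.Divs.val l = N)
    (hp : ∀ y ∈ l, y.1.Prime) (he : ∀ y ∈ l, y.2 ≠ 0 ∧ ¬ y.1 ^ (y.2 + 1) ∣ N) (hc : c0 ≤ cent x) {iso : List ℕ}
    (hiso : ∀ r ∈ iso, charDegree (χ : G → ℂ) % r = 0 ∨ charDegree (χ : G → ℂ) % r = 1 ∨
      charDegree (χ : G → ℂ) % r = r - 1) :
    okd N c0 l iso (charDegree (χ : G → ℂ)) = true := by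
  set d := charDegree (χ : G → ℂ) with hdd
  have hdl : ∀ y ∈ l, y.1 ^ y.2 ∣ N := by
    intro y hy
    rw [← hl, Cfsg.Agent.H417.Divs.val]
    exact List.dvd_prod (List.mem_map.2 ⟨y, hy, rfl⟩)
  have hf : ∀ y ∈ l, isFull d y = true → cent x = y.1 ^ y.2 ∧ y.1 ^ y.2 ∣ 1 + N / y.1 ^ y.2 := by
    intro y hy hyf
    have h3 : y.1 ^ y.2 ∣ d := Nat.dvd_of_mod_eq_zero (Nat.eq_of_beq_eq_true hyf)
    have h4 := full h (hp y hy) (he y hy).1 (by rw [hN]; exact hdl y hy) (by rw [hN]; exact (he y hy).2) h3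
    rw [hN] at h4
    exact h4.2
  have hT2 : cent x * (d * d) ≤ N + cent x := by
    have h3 := cent_mul_sq_le h
    rw [hN, pow_two] at h3
    exact h3
  have hd1 : 1 < d := one_lt_deg h
  have hblt : Nat.blt 1 d = true := by rw [Nat.blt_eq]; exact hd1
  have hmul : ∀ c : ℕ, c ≤ cent x → c * (d * d) ≤ N + c := by
    intro c hc
    obtain ⟨k, hk⟩ := Nat.exists_eq_add_of_le hc
    rw [hk] at hT2
    have h4 : k ≤ k * (d * d) := Nat.le_mul_of_pos_right k (by positivity)
    nlinarith
  rw [okd, hblt, Bool.true_and, Bool.and_eq_true, Bool.and_eq_true, Bool.and_eq_true]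
  refine ⟨by rw [Nat.ble_eq]; exact hmul c0 hc, ?_, ?_, ?_⟩
  · rw [List.all_eq_true]
    intro r hr
    unfold okMod
    rcases hiso r hr with h3 | h3 | h3
    · rw [h3]; rfl
    · rw [h3]; simp
    · rw [h3]; simp
  · rw [List.all_eq_true]
    intro y hy
    unfold okFull
    by_cases hyf : isFull d y = true
    · obtain ⟨h3, h4⟩ := hf y hy hyf
      rw [hyf, Bool.not_true, Bool.false_or, Nat.mod_eq_zero_of_dvd h4, Nat.beq_refl, Bool.true_and]
      rw [Nat.ble_eq]
      exact hmul _ h3.ge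
    · rw [Bool.not_eq_true] at hyf
      rw [hyf]; rfl
  · rw [List.all_eq_true]
    intro y hy
    by_cases hyf : isFull d y = true
    · rw [hyf, Bool.not_true, Bool.false_or, List.all_eq_true]
      intro y' hy'
      by_cases hyf' : isFull d y' = true
      · rw [hyf', Bool.not_true, Bool.false_or, ← (hf y hy hyf).1, ← (hf y' hy' hyf').1, Nat.beq_refl]
      · rw [Bool.not_eq_true] at hyf'
        rw [hyf']; rfl
    · rw [Bool.not_eq_true] at hyf
      rw [hyf]; rfl

/-- **The sieve**: the list `D` of the divisors of `N` which pass the test. -/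
theorem mem_of_sieve (h : One χ x) {N c0 : ℕ} (hN : Nat.card G = N) {l : List (ℕ × ℕ)}
    (hl : Cfsg.Agent.H417.Divs.val l = N)
    (hp : ∀ y ∈ l, y.1.Prime) (he : ∀ y ∈ l, y.2 ≠ 0 ∧ ¬ y.1 ^ (y.2 + 1) ∣ N) (hc : c0 ≤ cent x) {iso : List ℕ}
    (hiso : ∀ r ∈ iso, charDegree (χ : G → ℂ) % r = 0 ∨ charDegree (χ : G → ℂ) % r = 1 ∨
      charDegree (χ : G → ℂ) % r = r - 1) {D : List ℕ}
    (hD : ((Cfsg.Agent.H417.Divs.divs l).all fun d => !(okd N c0 l iso d) || D.contains d) = true) :
    charDegree (χ : G → ℂ) ∈ D := by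
  have h1 := Cfsg.Agent.H417.Divs.all_divs l hp hl hD (d := charDegree (χ : G → ℂ)) (by rw [← hN]; exact deg_dvd χ)
  rw [okd_of h hN hl hp he hc hiso, Bool.not_true, Bool.false_or, List.contains_iff_mem] at h1
  exact h1

/-- **The residue modulo an isolated prime** (helper849's T5; `|C(y)| = p` for every `y` of order `p`). -/
theorem iso_mod [IsSimpleGroup G] (h : One χ x) {p : ℕ} (hp : p.Prime) (h7 : 7 ≤ p) (hd : p ∣ Nat.card G) (hsq : ¬ p ^ 2 ∣ Nat.card G)
    (hG : Nat.card G ≠ p) (hC : ∀ y : G, orderOf y = p → Nat.card (Subgroup.centralizer ({y} : Set G)) = p)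
    (h4 : 4 ≤ cent x) : charDegree (χ : G → ℂ) % p = 0 ∨ charDegree (χ : G → ℂ) % p = 1 ∨
      charDegree (χ : G → ℂ) % p = p - 1 := by
  have hF : Fact p.Prime := ⟨hp⟩
  obtain ⟨z, hz⟩ := exists_prime_orderOf_dvd_card' p hd
  rcases H849.OZ.iso hp h7 hsq hG hz (hC z hz) h h4 with h1 | h1 | h1
  · exact Or.inr (Or.inl h1)
  · exact Or.inr (Or.inr h1)
  · exact Or.inl (Nat.mod_eq_zero_of_dvd h1.1)

end Cfsg.Agent.H672.OZ
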