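import Cfsg.Agent.H672.OZ.Sieve
import Cfsg.Agent.H730.OZ.Asm
import Cfsg.Agent.H315.PwHN

/-!
# One vanishing class: `HN` (helper672, S4842)

The sieve with the primes 19 (`|C| = 19`) and 11 (`|C| = 22`) leaves the degrees 24300, 2025000, 6480, 540000, 1728,
144000, 38400, 3200000, 10240, all divisible by 6 or by `2 ^ 10`.
-/

set_option autoImplicit false
set_option maxRecDepth 100000

open Cfsg Cfsg.Agent.Characters Cfsg.Agent.H732.VZ Cfsg.Agent.H604.OZ

namespace Cfsg.Agent.H672.OZ

universe u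

/-- the remaining degrees -/
theorem hn_deg [Finite Spor.HN] {χ : IrrCharacter Spor.HN} {x : Spor.HN} (h : One χ x) :
    charDegree (χ : Spor.HN → ℂ) ∈ [24300, 2025000, 6480, 540000, 1728, 144000, 38400, 3200000, 10240] := by
  have hN : Nat.card Spor.HN = 273030912000000 := Cfsg.Agent.S1701.result.2
  have hs : IsSimpleGroup Spor.HN := Cfsg.Agent.S1701.result.1
  have h4 : 4 ≤ cent x := four_le_cent h (by rw [hN]; norm_num) (by rw [hN]; norm_num)
  have h19 : charDegree (χ : Spor.HN → ℂ) % 19 = 0 ∨ charDegree (χ : Spor.HN → ℂ) % 19 = 1 ∨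
      charDegree (χ : Spor.HN → ℂ) % 19 = 19 - 1 :=
    iso_mod h (by norm_num) (by norm_num) (by rw [hN]; norm_num) (by rw [hN]; norm_num) (by rw [hN]; norm_num)
      (fun y hy => H315.PwHN.card_nineteen hy) h4
  have h11 : charDegree (χ : Spor.HN → ℂ) % 11 = 1 ∨ charDegree (χ : Spor.HN → ℂ) % 11 = 11 - 1 := by
    have hF : Fact (Nat.Prime 11) := ⟨by norm_num⟩
    obtain ⟨z, hz⟩ := exists_prime_orderOf_dvd_card' (G := Spor.HN) 11 (by rw [hN]; norm_num)
    exact two_mod_of h (by norm_num) (by norm_num) (by rw [hN]; norm_num) (by rw [hN]; norm_num) (by rw [hN]; norm_num)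
      hz (by rw [H315.PwHN.card_eleven hz]) h4
  have hiso : ∀ r ∈ [19, 11], charDegree (χ : Spor.HN → ℂ) % r = 0 ∨
      charDegree (χ : Spor.HN → ℂ) % r = 1 ∨ charDegree (χ : Spor.HN → ℂ) % r = r - 1 := by
    intro r hr
    simp only [List.mem_cons, List.not_mem_nil, or_false] at hr
    rcases hr with rfl | rfl
    · exact h19
    · exact Or.inr h11
  have hm := mem_of_sieve4 h hN (l := [(2,14),(3,6),(5,6),(7,1),(11,1),(19,1)]) (by decide +kernel)
    (by
      intro x hx
      simp only [List.mem_cons, List.not_mem_nil, or_false] at hx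
      rcases hx with rfl | rfl | rfl | rfl | rfl | rfl <;> norm_num)
    (by decide +kernel) h4 hiso
    (D := [24300, 2025000, 6480, 540000, 1728, 144000, 38400, 3200000, 10240]) (by decide +kernel)
  exact hm

theorem row_hn_of [Finite Spor.HN] (h6 : ∀ (χ : IrrCharacter Spor.HN) (x : Spor.HN), One χ x →
      ¬ 6 ∣ charDegree (χ : Spor.HN → ℂ))
    (h10 : ∀ (χ : IrrCharacter Spor.HN) (x : Spor.HN), One χ x → ¬ 2 ^ 10 ∣ charDegree (χ : Spor.HN → ℂ)) :
    H730.OZ.Row Spor.HN := by
  refine row_of fun χ x h => ?_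
  have hm := hn_deg h
  have h1 := h6 χ x h
  have h2 := h10 χ x h
  simp only [List.mem_cons, List.not_mem_nil, or_false] at hm
  rcases hm with e | e | e | e | e | e | e | e | e <;> rw [e] at h1 h2 <;>
    first
      | exact h1 (by decide)
      | exact h2 (by decide)

end Cfsg.Agent.H672.OZ
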