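import Cfsg.Agent.H672.OZ.Full
import Cfsg.Agent.H730.OZ.Asm
import Cfsg.Agent.H733.OZ.Good
import Cfsg.Agent.H417.JThreeCols

/-!
# One vanishing class: `J₃` (helper672, S4842)

The sieve leaves the degrees 18 and 324; the values at the elements of order 4 and 8 (`|C| = 96, 8`) exclude them.

* `cent_of_val` : `χ y = v`, `v` a nonzero integer: `c (v² - 1) ≤ |C(y)|`.
-/

set_option autoImplicit false
set_option maxRecDepth 100000

open Cfsg Cfsg.Agent.Characters Cfsg.Agent.H732.VZ Cfsg.Agent.H604.OZ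

namespace Cfsg.Agent.H672.OZ

universe u

section val

variable {G : Type u} [Group G] [Finite G] {χ : IrrCharacter G} {x : G}

omit [Finite G] in
/-- The order of a conjugacy class. -/
theorem card_class_mul (y : G) : Nat.card {g : G // IsConj y g} * cent y = Nat.card G := by
  rw [← CentralCharacter.index_centralizer_eq_card, mul_comm, Subgroup.card_mul_index]

/-- A nonzero integral value `v` at `y`: `c (v² - 1) ≤ |C(y)|`. -/
theorem cent_of_val (h : One χ x) {y : G} {v : ℤ} (hv : (χ : G → ℂ) y = v) (h0 : v ≠ 0) :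
    cent x * (v.natAbs ^ 2 - 1) ≤ cent y := by
  classical
  have := Fintype.ofFinite G
  let Y : Finset G := Finset.univ.filter fun g : G => (χ : G → ℂ) g = v
  have hmem : ∀ g : G, g ∈ Y ↔ (χ : G → ℂ) g = v := fun g => by simp [Y]
  have hvC : (v : ℂ) ≠ 0 := by exact_mod_cast h0
  have hn : 0 < v.natAbs := Int.natAbs_pos.2 h0
  have h1 := excess χ (Y := Y) (fun g hg k hk => by
      rw [hmem] at hg ⊢
      obtain ⟨σ, hσ⟩ := GaloisBasic.exists_ringEquiv_of_coprime (G := G) hk
      rw [← hσ _ (Core.isIrr_isCharacter χ.2) g, hg, map_intCast]) (fun g hg => by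
      rw [(hmem g).1 hg]
      exact hvC) (r := v.natAbs) hn (fun g hg => by
      rw [(hmem g).1 hg]
      rcases Int.natAbs_eq v with h2 | h2
      · have h3 : (v : ℂ) = ((v.natAbs : ℕ) : ℂ) := by
          have h4 := congrArg (Int.cast : ℤ → ℂ) h2
          rwa [Int.cast_natCast] at h4
        rw [h3, div_self (by exact_mod_cast hn.ne')]
        exact isIntegral_one
      · have h3 : (v : ℂ) = -((v.natAbs : ℕ) : ℂ) := by
          have h4 := congrArg (Int.cast : ℤ → ℂ) h2
          rwa [Int.cast_neg, Int.cast_natCast] at h4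
        rw [h3, neg_div, div_self (by exact_mod_cast hn.ne')]
        exact isIntegral_one.neg)
  have h2 := card_zeros h
  have h3 : Nat.card {g : G // IsConj y g} ≤ Y.card := by
    rw [← Nat.card_eq_finsetCard Y]
    refine Nat.card_le_card_of_injective (fun g => (⟨g.1, ?_⟩ : Y)) ?_
    · rw [hmem]
      obtain ⟨c, hc⟩ := isConj_iff.1 g.2
      rw [← hc, Core.isIrr_isClassFunction χ.2 y c]
      exact hv
    · intro a b hab
      exact Subtype.ext (congrArg (fun z : Y => (z : G)) hab)
  have h4 := card_class_mul (G := G) y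
  have h5 : Y.card * (v.natAbs ^ 2 - 1) ≤ (Finset.univ.filter fun g : G => (χ : G → ℂ) g = 0).card := by
    rw [Nat.mul_sub, mul_one]
    omega
  have h6 := (Nat.mul_le_mul_right (v.natAbs ^ 2 - 1) h3).trans h5
  -- `k (v² - 1) ≤ z`, `k |C(y)| = N = z c`
  have hN : 0 < Nat.card G := Nat.card_pos
  change _ * cent x = _ at h2
  have h7 : Nat.card {g : G // IsConj y g} * (cent x * (v.natAbs ^ 2 - 1))
      ≤ Nat.card {g : G // IsConj y g} * cent y := by
    rw [h4, ← h2]
    calc Nat.card {g : G // IsConj y g} * (cent x * (v.natAbs ^ 2 - 1))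
        = Nat.card {g : G // IsConj y g} * (v.natAbs ^ 2 - 1) * cent x := by ring
      _ ≤ (Finset.univ.filter fun g : G => (χ : G → ℂ) g = 0).card * cent x := Nat.mul_le_mul_right _ h6
  refine Nat.le_of_mul_le_mul_left h7 ?_
  rcases Nat.eq_zero_or_pos (Nat.card {g : G // IsConj y g}) with h8 | h8
  · rw [h8, zero_mul] at h4
    omega
  · exact h8

end val

open Cfsg.Agent.J3Type.CodeTab Cfsg.Agent.J3Type.CodeFacts Cfsg.Agent.J3Type.CodeGroup
open Cfsg.Agent.J3Type.CharTools Cfsg.Agent.J3Type.CharRow Cfsg.Agent.J3Type.CharOrder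

/-- **`J₃`.** -/
theorem row_j3 {S : Type u} [Group S] [Finite S] (hs : IsSimpleGroup S) (h : Spor.IsoJ3 S) : H730.OZ.Row S := by
  have hN : Nat.card S = 50232960 := (H898.J3Cent.base h).2.1
  refine row_of fun χ x ho => ?_
  have h4 : 4 ≤ cent x := four_le_cent ho (by rw [hN]; norm_num) (by rw [hN]; norm_num)
  have hiso : ∀ r ∈ [17, 19], charDegree (χ : S → ℂ) % r = 0 ∨
      charDegree (χ : S → ℂ) % r = 1 ∨ charDegree (χ : S → ℂ) % r = r - 1 := by
    intro r hr
    simp only [List.mem_cons, List.not_mem_nil, or_false] at hr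
    rcases hr with rfl | rfl
    · exact iso_mod ho (by norm_num) (by norm_num) (by rw [hN]; norm_num) (by rw [hN]; norm_num) (by rw [hN]; norm_num)
        (fun y hy => (H898.J3Cent.seventeen h hy).1) h4
    · exact iso_mod ho (by norm_num) (by norm_num) (by rw [hN]; norm_num) (by rw [hN]; norm_num) (by rw [hN]; norm_num)
        (fun y hy => H898.J3Cent.card_nineteen h hy) h4
  have hm := mem_of_sieve ho hN (l := [(2,7),(3,5),(5,1),(17,1),(19,1)]) (by decide +kernel)
    (by
      intro x hx
      simp only [List.mem_cons, List.not_mem_nil, or_false] at hx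
      rcases hx with rfl | rfl | rfl | rfl | rfl <;> norm_num)
    (by decide +kernel) h4 hiso (D := [18, 324]) (by decide +kernel)
  obtain ⟨t, D, hD, hall⟩ := H417.JThreeCols.exists_coded_iso h
  obtain ⟨ζ, hζ, hsq⟩ := exists_sqrt_five
  obtain ⟨V, R⟩ := exists_row hD hall hζ hsq χ.2
  have hcc := cc_y hD (j := 26163) (by rw [hN])
  have c2 : cent (D 1) = 96 := hcc 2
  have c4 : cent (D 97) = 8 := hcc 4
  have hV0 : V 0 = (charDegree (χ : S → ℂ) : ℤ) := by
    have h1 := R.e0
    rw [← H686.CharKit.charDegree_irr χ] at h1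
    exact_mod_cast h1.symm
  have r1 := R.c1
  have r4 := R.c4
  have r8 := R.c8
  have hd : charDegree (χ : S → ℂ) = 18 ∨ charDegree (χ : S → ℂ) = 324 := by
    simpa only [List.mem_cons, List.not_mem_nil, or_false] using hm
  -- the value at the elements of order 8
  have hv4 : V 4 = 0 := by
    by_contra hne
    have h1 := cent_of_val ho R.e4 hne
    rw [c4] at h1
    have h2 : (2 : ℤ) ∣ V 4 := by
      rcases hd with hd | hd <;> rw [hd] at hV0 <;> push_cast at hV0 <;> omega
    have h3 : 2 ≤ (V 4).natAbs := by omega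
    have h5 : 3 ≤ (V 4).natAbs ^ 2 - 1 := by
      have : 2 ^ 2 ≤ (V 4).natAbs ^ 2 := Nat.pow_le_pow_left h3 2
      omega
    have h6 := Nat.mul_le_mul h4 h5
    omega
  have hc8 : cent x = 8 := by
    rw [cent_eq_of_conj (ho.uniq (D 97) (by rw [R.e4, hv4]; simp)), c4]
  rcases hd with hd | hd
  · have h1 := H733.OZ.cent_le ho (r := 5) (n := 1) (by norm_num) (by rw [hN]; norm_num) (by rw [hN]; norm_num)
      (by rw [hd]; norm_num)
    omega
  · have h2 : (4 : ℤ) ∣ V 2 := by
      rw [hd] at hV0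
      push_cast at hV0
      omega
    have hv2 : V 2 ≠ 0 := by
      intro h0
      have h3 := cent_eq_of_conj (ho.uniq (D 1) (by rw [R.e2, h0]; simp))
      omega
    have h1 := cent_of_val ho R.e2 hv2
    rw [c2, hc8] at h1
    have h3 : 4 ≤ (V 2).natAbs := by omega
    have h5 : 4 ^ 2 ≤ (V 2).natAbs ^ 2 := Nat.pow_le_pow_left h3 2
    omega

end Cfsg.Agent.H672.OZ
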